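import Mathlib

/-!
# Flatness descends along finite injective maps of Noetherian rings (arbitrary modules)
-/

universe u

open TensorProduct

namespace Groth.Agent.FiniteInjDescent

variable {R : Type u} [CommRing R] {M : Type u} [AddCommGroup M] [Module R M]

/-- Tensoring with `M` preserves injections of modules killed by `J`. -/
def GoodOn (J : Ideal R) (M : Type u) [AddCommGroup M] [Module R M] : Prop :=
  ∀ (N N' : Type u) [AddCommGroup N] [AddCommGroup N'] [Module R N] [Module R N'] (f : N →ₗ[R] N'),
    (∀ r ∈ J, ∀ x : N, r • x = 0) → (∀ r ∈ J, ∀ x : N', r • x = 0) → Function.Injective f →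
      Function.Injective (f.rTensor M)

theorem GoodOn.mono {J J' : Ideal R} (h : GoodOn J M) (hle : J ≤ J') : GoodOn J' M :=
  fun N N' _ _ _ _ f h1 h2 hf => h N N' f (fun r hr => h1 r (hle hr)) (fun r hr => h2 r (hle hr)) hf

theorem GoodOn.flat (h : GoodOn (⊥ : Ideal R) M) : Module.Flat R M :=
  Module.Flat.iff_rTensor_injective'.2 fun I => h _ _ I.subtype (fun r hr x => by simp [(Ideal.mem_bot).1 hr])
    (fun r hr x => by simp [(Ideal.mem_bot).1 hr]) Subtype.val_injective

/-- Base change dictionary for tensoring a map of modules over an algebra. -/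
theorem rTensor_injective_iff {A : Type u} [CommRing A] [Algebra R A] {N N' : Type u}
    [AddCommGroup N] [AddCommGroup N'] [Module R N] [Module R N'] [Module A N] [Module A N']
    [IsScalarTower R A N] [IsScalarTower R A N'] (f : N →ₗ[A] N') :
    Function.Injective ((f.restrictScalars R).rTensor M) ↔
      Function.Injective (f.rTensor (A ⊗[R] M)) := by
  have h : ∀ z, TensorProduct.AlgebraTensorModule.cancelBaseChange R A A N' M (f.rTensor (A ⊗[R] M) z) =
      (f.restrictScalars R).rTensor M (TensorProduct.AlgebraTensorModule.cancelBaseChange R A A N M z) := by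
    intro z
    induction z using TensorProduct.induction_on with
    | zero => simp
    | add x y hx hy => simp [map_add, hx, hy]
    | tmul n w =>
      induction w using TensorProduct.induction_on with
      | zero => simp
      | add x y hx hy => simp only [TensorProduct.tmul_add, map_add, hx, hy]
      | tmul a m => simp
  have h' : ((TensorProduct.AlgebraTensorModule.cancelBaseChange R A A N' M) ∘ (f.rTensor (A ⊗[R] M))) =
      ((f.restrictScalars R).rTensor M) ∘ (TensorProduct.AlgebraTensorModule.cancelBaseChange R A A N M) :=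
    funext h
  constructor
  · intro hi
    have := hi.comp (TensorProduct.AlgebraTensorModule.cancelBaseChange R A A N M).injective
    rw [← h'] at this
    exact this.of_comp
  · intro hi
    have := (TensorProduct.AlgebraTensorModule.cancelBaseChange R A A N' M).injective.comp hi
    rw [h'] at this
    exact ((TensorProduct.AlgebraTensorModule.cancelBaseChange R A A N M).toEquiv.injective_comp _).1 this

/-- Dévissage of an ideal along `J`. -/
theorem injective_of_inf {I J : Ideal R} (hJ : GoodOn J M)
    (h : Function.Injective ((I ⊓ J : Submodule R R).subtype.rTensor M)) :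
    Function.Injective (I.subtype.rTensor M) := by
  let g : I →ₗ[R] LinearMap.range (J.mkQ ∘ₗ I.subtype) := (J.mkQ ∘ₗ I.subtype).rangeRestrict
  let i : (I ⊓ J : Submodule R R) →ₗ[R] I := Submodule.inclusion inf_le_left
  have hkill : ∀ r ∈ J, ∀ x : R ⧸ J, r • x = 0 := fun r hr x => by
    obtain ⟨x, rfl⟩ := Submodule.Quotient.mk_surjective J x
    rw [← Submodule.Quotient.mk_smul, Submodule.Quotient.mk_eq_zero]
    exact J.mul_mem_right x hr
  have hinj := hJ _ _ (LinearMap.range (J.mkQ ∘ₗ I.subtype)).subtype
    (fun r hr x => Subtype.ext (hkill r hr x)) hkill Subtype.val_injective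
  have hex : Function.Exact i g := by
    intro x
    constructor
    · intro hx
      have := congrArg Subtype.val hx
      exact ⟨⟨x.1, x.2, (Submodule.Quotient.mk_eq_zero J).1 this⟩, rfl⟩
    · rintro ⟨y, rfl⟩
      exact Subtype.ext ((Submodule.Quotient.mk_eq_zero J).2 y.2.2)
  have hex' := rTensor_exact M hex (LinearMap.surjective_rangeRestrict _)
  rw [injective_iff_map_eq_zero]
  intro z hz
  have hc : (LinearMap.range (J.mkQ ∘ₗ I.subtype)).subtype ∘ₗ g = J.mkQ ∘ₗ I.subtype := rfl
  have hgz : g.rTensor M z = 0 := by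
    apply hinj
    rw [map_zero, ← LinearMap.comp_apply, ← LinearMap.rTensor_comp, hc, LinearMap.rTensor_comp,
      LinearMap.comp_apply, hz, map_zero]
  obtain ⟨y, rfl⟩ := (hex' z).1 hgz
  have hc2 : I.subtype ∘ₗ i = (I ⊓ J : Submodule R R).subtype := rfl
  rw [← LinearMap.comp_apply, ← LinearMap.rTensor_comp, hc2] at hz
  rw [h (hz.trans (map_zero _).symm), map_zero]

/-- A finite extension of a domain has a functional nonzero at `1`. -/
theorem exists_dual_one_ne_zero {R S : Type u} [CommRing R] [IsDomain R] [CommRing S] [Algebra R S]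
    [Module.Finite R S] (hinj : Function.Injective (algebraMap R S)) :
    ∃ φ : S →ₗ[R] R, φ 1 ≠ 0 := by
  let K := FractionRing R
  have hne : ((1 : K) ⊗ₜ[R] (1 : S)) ≠ 0 := by
    intro h0
    have hi := Module.Flat.lTensor_preserves_injective_linearMap (M := K) (Algebra.linearMap R S) hinj
    have : (1 : K) ⊗ₜ[R] (1 : R) = 0 := hi (by simpa using h0)
    have := congrArg (TensorProduct.rid R K) this
    simp at this
  obtain ⟨ψ, hψ⟩ := Module.Projective.exists_dual_ne_zero K hne
  let ψ' : S →ₗ[R] K := (ψ.restrictScalars R) ∘ₗ TensorProduct.mk R K S 1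
  obtain ⟨T, hT⟩ := (Module.Finite.fg_top : (⊤ : Submodule R S).FG)
  classical
  obtain ⟨⟨d, hd⟩, hint⟩ := IsLocalization.exist_integer_multiples_of_finset (nonZeroDivisors R) (T.image ψ')
  have hd0 : d ≠ 0 := nonZeroDivisors.ne_zero hd
  have hrange : ∀ s, (d • ψ') s ∈ LinearMap.range (Algebra.linearMap R K) := by
    intro s
    have hs : s ∈ Submodule.span R (T : Set S) := hT ▸ Submodule.mem_top
    induction hs using Submodule.span_induction with
    | mem x hx =>
      obtain ⟨r, hr⟩ := hint (ψ' x) (Finset.mem_image_of_mem _ hx)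
      exact ⟨r, hr⟩
    | zero => exact ⟨0, by simp⟩
    | add x y _ _ hx hy => rw [map_add]; exact add_mem hx hy
    | smul c x _ hx => rw [map_smul]; exact Submodule.smul_mem _ c hx
  let φ : S →ₗ[R] R :=
    (LinearEquiv.ofInjective (Algebra.linearMap R K) (IsFractionRing.injective R K)).symm.toLinearMap ∘ₗ
      (d • ψ').codRestrict _ hrange
  have hφ : algebraMap R K (φ 1) = d • ψ ((1 : K) ⊗ₜ[R] (1 : S)) :=
    congrArg Subtype.val ((LinearEquiv.ofInjective (Algebra.linearMap R K)
      (IsFractionRing.injective R K)).apply_symm_apply ⟨_, hrange 1⟩)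
  have hc : φ 1 ≠ 0 := by
    intro h0
    rw [h0, map_zero, eq_comm, Algebra.smul_def, mul_eq_zero, map_eq_zero_iff _ (IsFractionRing.injective R K)] at hφ
    exact hφ.elim hd0 hψ
  exact ⟨φ, hc⟩

variable {S : Type u} [CommRing S] [Algebra R S] [Module.Flat S (S ⊗[R] M)]

theorem rTensor_injective_of_flat_baseChange {N N' : Type u} [AddCommGroup N] [AddCommGroup N']
    [Module R N] [Module R N'] [Module S N] [Module S N'] [IsScalarTower R S N] [IsScalarTower R S N']
    (f : N →ₗ[S] N') (hf : Function.Injective f) :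
    Function.Injective ((f.restrictScalars R).rTensor M) :=
  (rTensor_injective_iff f).2 (Module.Flat.rTensor_preserves_injective_linearMap f hf)

/-- The case of a zero divisor `a`. -/
theorem flat_of_zero_divisor (hinj : Function.Injective (algebraMap R S))
    (h : ∀ K : Ideal S, K ≠ ⊥ → GoodOn (K.comap (algebraMap R S)) M) {a b : R} (ha : a ≠ 0) (hb : b ≠ 0)
    (hab : a * b = 0) : Module.Flat R M := by
  let x : S := algebraMap R S a
  let μ₀ : S →ₗ[S] S := LinearMap.mulLeft S x
  let Q : Ideal S := LinearMap.ker μ₀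
  let μ : (S ⧸ Q) →ₗ[S] S := Q.liftQ μ₀ le_rfl
  have hμ : Function.Injective μ := LinearMap.ker_eq_bot.1 (Submodule.ker_liftQ_eq_bot _ _ _ le_rfl)
  have hK : Ideal.span {x} ≠ ⊥ := by
    rw [Ne, Ideal.span_singleton_eq_bot]
    exact fun hx => ha (hinj (hx.trans (map_zero _).symm))
  have hQ : Q ≠ ⊥ := by
    rw [Submodule.ne_bot_iff]
    refine ⟨algebraMap R S b, ?_, fun hx => hb (hinj (hx.trans (map_zero _).symm))⟩
    show x * algebraMap R S b = 0
    rw [← map_mul, hab, map_zero]
  have hp := h Q hQ
  refine Module.Flat.iff_rTensor_injective'.2 fun I => ?_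
  refine injective_of_inf (h _ hK) ?_
  let N : Submodule R R := I ⊓ (Ideal.span {x}).comap (algebraMap R S)
  have hrange : ∀ n : N, (Algebra.linearMap R S ∘ₗ N.subtype) n ∈ LinearMap.range (μ.restrictScalars R) := by
    intro n
    obtain ⟨s, hs⟩ := Ideal.mem_span_singleton.1 n.2.2
    exact ⟨Submodule.Quotient.mk s, hs.symm⟩
  let ι : N →ₗ[R] (S ⧸ Q) :=
    (LinearEquiv.ofInjective (μ.restrictScalars R) hμ).symm.toLinearMap ∘ₗ
      (Algebra.linearMap R S ∘ₗ N.subtype).codRestrict _ hrange
  have hι : μ.restrictScalars R ∘ₗ ι = Algebra.linearMap R S ∘ₗ N.subtype := by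
    refine LinearMap.ext fun n => ?_
    exact congrArg Subtype.val ((LinearEquiv.ofInjective (μ.restrictScalars R) hμ).apply_symm_apply
      ⟨_, hrange n⟩)
  have hι' : Function.Injective ι := by
    have : Function.Injective (μ.restrictScalars R ∘ₗ ι) := by
      rw [hι]; exact hinj.comp Subtype.val_injective
    rw [LinearMap.coe_comp] at this
    exact this.of_comp
  have hkQ : ∀ r ∈ Q.comap (algebraMap R S), ∀ s : S ⧸ Q, r • s = 0 := fun r hr s => by
    obtain ⟨s, rfl⟩ := Submodule.Quotient.mk_surjective Q s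
    rw [← algebraMap_smul S r (Submodule.Quotient.mk s : S ⧸ Q), ← Submodule.Quotient.mk_smul,
      Submodule.Quotient.mk_eq_zero]
    exact Q.mul_mem_right s hr
  have hkN : ∀ r ∈ Q.comap (algebraMap R S), ∀ n : N, r • n = 0 := fun r hr n => by
    apply hι'
    rw [map_smul, map_zero, hkQ r hr]
  have h1 : Function.Injective ((μ.restrictScalars R ∘ₗ ι).rTensor M) := by
    rw [LinearMap.rTensor_comp, LinearMap.coe_comp]
    exact (rTensor_injective_of_flat_baseChange μ hμ).comp (hp N (S ⧸ Q) ι hkN hkQ hι')
  rw [hι, LinearMap.rTensor_comp, LinearMap.coe_comp] at h1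
  exact h1.of_comp

theorem flat_of_isDomain [IsDomain R] [IsDomain S] [Module.Finite R S]
    (hinj : Function.Injective (algebraMap R S))
    (h : ∀ K : Ideal S, K ≠ ⊥ → GoodOn (K.comap (algebraMap R S)) M) : Module.Flat R M := by
  obtain ⟨φ, hc⟩ := exists_dual_one_ne_zero (S := S) hinj
  -- for every nonzero `e`, tensoring is exact on modules killed by `e`, and `e` is regular on `M`
  have hgood : ∀ e : R, e ≠ 0 → GoodOn (Ideal.span {e}) M := by
    intro e he
    set e' := φ 1 * e with he'
    have he'0 : e' ≠ 0 := mul_ne_zero hc he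
    have hne2 : Ideal.span {algebraMap R S (e' ^ 2)} ≠ ⊥ := by
      rw [Ne, Ideal.span_singleton_eq_bot]
      exact fun hx => pow_ne_zero 2 he'0 (hinj (hx.trans (map_zero _).symm))
    refine (h _ hne2).mono fun a ha => ?_
    obtain ⟨s, hs⟩ := Ideal.mem_span_singleton.1 ha
    have h1 : φ (algebraMap R S a) = a * φ 1 := by
      rw [Algebra.algebraMap_eq_smul_one, map_smul, smul_eq_mul]
    rw [hs, ← Algebra.smul_def, map_smul, smul_eq_mul] at h1
    refine Ideal.mem_span_singleton.2 ⟨φ 1 * e * φ s, ?_⟩
    refine mul_left_cancel₀ hc ?_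
    rw [mul_comm, ← h1, he']
    ring
  have hreg : ∀ (e : R), e ≠ 0 → ∀ x : M, e • x = 0 → x = 0 := by
    intro e he x hx
    set e' := φ 1 * e with he'
    have he'0 : e' ≠ 0 := mul_ne_zero hc he
    have hx' : e' • x = 0 := by rw [he', mul_smul, hx, smul_zero]
    let f : (R ⧸ Ideal.span {e'}) →ₗ[R] (R ⧸ Ideal.span {e' ^ 2}) :=
      Submodule.mapQ (Ideal.span {e'}) (Ideal.span {e' ^ 2}) (LinearMap.mulLeft R e') (by
        intro r hr
        obtain ⟨s, rfl⟩ := Ideal.mem_span_singleton.1 hr
        exact Ideal.mem_span_singleton.2 ⟨s, by simp; ring⟩)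
    have hkill : ∀ (n : ℕ), 1 ≤ n → n ≤ 2 → ∀ r ∈ Ideal.span {e' ^ 2}, ∀ z : R ⧸ Ideal.span {e' ^ n}, r • z = 0 := by
      intro n _ hn r hr z
      obtain ⟨z, rfl⟩ := Submodule.Quotient.mk_surjective _ z
      rw [← Submodule.Quotient.mk_smul, Submodule.Quotient.mk_eq_zero]
      exact Ideal.mul_mem_right _ _ (Ideal.span_singleton_le_span_singleton.2 (pow_dvd_pow _ hn) hr)
    have hf : Function.Injective f := by
      rw [← LinearMap.ker_eq_bot, Submodule.eq_bot_iff]
      intro z hz
      obtain ⟨z, rfl⟩ := Submodule.Quotient.mk_surjective _ z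
      rw [LinearMap.mem_ker, Submodule.mapQ_apply, Submodule.Quotient.mk_eq_zero] at hz
      obtain ⟨s, hs⟩ := Ideal.mem_span_singleton.1 hz
      rw [Submodule.Quotient.mk_eq_zero]
      refine Ideal.mem_span_singleton.2 ⟨s, mul_left_cancel₀ he'0 ?_⟩
      simpa [pow_two, mul_assoc] using hs
    have hfi := hgood (e' ^ 2) (pow_ne_zero 2 he'0) _ _ f
      (fun r hr z => by
        obtain ⟨z, rfl⟩ := Submodule.Quotient.mk_surjective _ z
        rw [← Submodule.Quotient.mk_smul, Submodule.Quotient.mk_eq_zero]
        exact Ideal.mul_mem_right _ _ (Ideal.span_singleton_le_span_singleton.2 (dvd_pow_self _ two_ne_zero) hr))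
      (hkill 2 one_le_two le_rfl) hf
    have hz : (Submodule.Quotient.mk 1 : R ⧸ Ideal.span {e'}) ⊗ₜ[R] x = 0 := by
      apply hfi
      rw [map_zero, LinearMap.rTensor_tmul, Submodule.mapQ_apply, LinearMap.mulLeft_apply, mul_one,
        ← mul_one e', ← smul_eq_mul, Submodule.Quotient.mk_smul, TensorProduct.smul_tmul, hx',
        TensorProduct.tmul_zero]
    have hz' := congrArg (TensorProduct.quotTensorEquivQuotSMul M (Ideal.span {e'})) hz
    change TensorProduct.quotTensorEquivQuotSMul M (Ideal.span {e'}) (Ideal.Quotient.mk _ 1 ⊗ₜ[R] x) = _ at hz'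
    rw [map_zero, TensorProduct.quotTensorEquivQuotSMul_mk_tmul,
      one_smul, Submodule.Quotient.mk_eq_zero, Submodule.ideal_span_singleton_smul,
      Submodule.mem_smul_pointwise_iff_exists] at hz'
    obtain ⟨y, -, hy⟩ := hz'
    have hy2 : (algebraMap R S (e' * e')) • ((1 : S) ⊗ₜ[R] y) = 0 := by
      rw [algebraMap_smul, ← TensorProduct.tmul_smul, mul_smul, hy, hx', TensorProduct.tmul_zero]
    have hne3 : algebraMap R S (e' * e') ≠ 0 := fun hh => mul_ne_zero he'0 he'0 (hinj (hh.trans (map_zero _).symm))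
    have hy3 : (1 : S) ⊗ₜ[R] y = 0 := (smul_eq_zero.1 hy2).resolve_left hne3
    have hy4 := congrArg (fun w => TensorProduct.lid R M ((φ.rTensor M) w)) hy3
    simp only [LinearMap.rTensor_tmul, TensorProduct.lid_tmul, map_zero] at hy4
    rw [← hy, he', mul_comm, mul_smul, hy4, smul_zero]
  refine Module.Flat.iff_rTensor_injective'.2 fun I => ?_
  by_cases hI : I = ⊥
  · subst hI
    exact Function.injective_of_subsingleton _
  obtain ⟨e, heI, he⟩ := Submodule.exists_mem_ne_zero_of_ne_bot hI
  refine injective_of_inf (hgood e he) ?_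
  have heN : ∀ r : R, r • e ∈ (I ⊓ Ideal.span {e} : Submodule R R) := fun r =>
    ⟨I.smul_mem r heI, Submodule.smul_mem _ r (Ideal.mem_span_singleton_self e)⟩
  let g : R →ₗ[R] (I ⊓ Ideal.span {e} : Submodule R R) := (LinearMap.toSpanSingleton R R e).codRestrict _ heN
  have hg : Function.Surjective g := by
    rintro ⟨n, -, hn⟩
    obtain ⟨s, rfl⟩ := Ideal.mem_span_singleton.1 hn
    exact ⟨s, Subtype.ext (mul_comm s e)⟩
  rw [injective_iff_map_eq_zero]
  intro z hz
  obtain ⟨z, rfl⟩ := LinearMap.rTensor_surjective M hg z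
  obtain ⟨m, rfl⟩ : ∃ m : M, (1 : R) ⊗ₜ[R] m = z :=
    ⟨TensorProduct.lid R M z, (TensorProduct.lid R M).symm_apply_apply z⟩
  rw [LinearMap.rTensor_tmul, LinearMap.rTensor_tmul] at hz
  have hz' := congrArg (TensorProduct.lid R M) hz
  rw [TensorProduct.lid_tmul, map_zero] at hz'
  have : e • m = 0 := by
    simpa [g] using hz'
  rw [hreg e he m this, TensorProduct.tmul_zero, map_zero]

/-- Reduction step. -/
theorem flat_step [Module.Finite R S] (hinj : Function.Injective (algebraMap R S))
    (h : ∀ K : Ideal S, K ≠ ⊥ → GoodOn (K.comap (algebraMap R S)) M) : Module.Flat R M := by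
  rcases subsingleton_or_nontrivial R with hR | hR
  · haveI : Subsingleton M := Module.subsingleton R M
    infer_instance
  by_cases hzd : ∃ a b : R, a ≠ 0 ∧ b ≠ 0 ∧ a * b = 0
  · obtain ⟨a, b, ha, hb, hab⟩ := hzd
    exact flat_of_zero_divisor hinj h ha hb hab
  push_neg at hzd
  haveI : NoZeroDivisors R := ⟨fun {a b} hab => by
    by_contra hh; push_neg at hh; exact hzd a b hh.1 hh.2 hab⟩
  haveI : IsDomain R := NoZeroDivisors.to_isDomain R
  haveI : Algebra.IsIntegral R S := Algebra.IsIntegral.of_finite R S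
  obtain ⟨q, -, hq, hqc⟩ := Ideal.exists_ideal_over_prime_of_isIntegral (⊥ : Ideal R) (⊥ : Ideal S)
    (by
      intro a ha
      rw [Ideal.mem_comap, Ideal.mem_bot] at ha
      exact Ideal.mem_bot.2 (hinj (ha.trans (map_zero _).symm)))
  by_cases hq0 : q = ⊥
  · subst hq0
    haveI := hq
    haveI : IsDomain S := IsDomain.of_bot_isPrime S
    exact flat_of_isDomain hinj h
  · exact GoodOn.flat (hqc ▸ h q hq0)

omit [Module.Flat S (S ⊗[R] M)] in
theorem goodOn_quotient [IsNoetherianRing S] [Module.Finite R S] [Module.Flat S (S ⊗[R] M)]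
    (K : Ideal S) : GoodOn (K.comap (algebraMap R S)) M := by
  induction K using IsNoetherian.induction with
  | hgt K ih =>
    let J : Ideal R := Ideal.comap (algebraMap R S) K
    let R' := R ⧸ J
    let S' := S ⧸ K
    letI : Algebra R' S' := (Ideal.quotientMap K (algebraMap R S) le_rfl).toAlgebra
    haveI : IsScalarTower R R' S' := IsScalarTower.of_algebraMap_eq fun _ => rfl
    haveI : Module.Finite R S' := Module.Finite.of_surjective (Submodule.mkQ (K.restrictScalars R))
      (Submodule.Quotient.mk_surjective _)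
    haveI : Module.Finite R' S' := Module.Finite.of_restrictScalars_finite R R' S'
    haveI : Module.Flat S' (S' ⊗[R'] (R' ⊗[R] M)) :=
      Module.Flat.of_linearEquiv
        ((TensorProduct.AlgebraTensorModule.cancelBaseChange R R' S' S' M).trans
          (TensorProduct.AlgebraTensorModule.cancelBaseChange R S S' S' M).symm)
    have hflat : Module.Flat R' (R' ⊗[R] M) := by
      refine flat_step (S := S') Ideal.quotientMap_injective fun K' hK' => ?_
      have hlt : K < Ideal.comap (Ideal.Quotient.mk K) K' := by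
        refine lt_of_le_of_ne (fun x hx => ?_) fun heq => hK' ?_
        · rw [Ideal.mem_comap, Ideal.Quotient.eq_zero_iff_mem.2 hx]; exact K'.zero_mem
        · rw [← Ideal.map_comap_of_surjective _ Ideal.Quotient.mk_surjective K', ← heq, Ideal.map_quotient_self]
      intro N N' _ _ _ _ f hN hN' hf
      letI : Module R N := Module.compHom N (Ideal.Quotient.mk J)
      letI : Module R N' := Module.compHom N' (Ideal.Quotient.mk J)
      haveI : IsScalarTower R R' N := IsScalarTower.of_algebraMap_smul fun _ _ => rfl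
      haveI : IsScalarTower R R' N' := IsScalarTower.of_algebraMap_smul fun _ _ => rfl
      rw [← rTensor_injective_iff (R := R) f]
      exact ih _ hlt N N' (f.restrictScalars R) (fun r hr x => hN _ hr x) (fun r hr x => hN' _ hr x) hf
    intro N N' _ _ _ _ f hN hN' hf
    have hN1 : Module.IsTorsionBySet R N (J : Set R) := fun x a => hN a.1 a.2 x
    have hN2 : Module.IsTorsionBySet R N' (J : Set R) := fun x a => hN' a.1 a.2 x
    letI := hN1.module
    letI := hN2.module
    haveI : IsScalarTower R R' N := IsScalarTower.of_algebraMap_smul fun _ _ => rfl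
    haveI : IsScalarTower R R' N' := IsScalarTower.of_algebraMap_smul fun _ _ => rfl
    let f' : N →ₗ[R'] N' :=
      { toFun := f
        map_add' := f.map_add
        map_smul' := fun r x => by
          obtain ⟨r, rfl⟩ := Ideal.Quotient.mk_surjective r
          exact f.map_smul r x }
    exact (rTensor_injective_iff (R := R) f').2 (Module.Flat.rTensor_preserves_injective_linearMap f' hf)

/-- Flatness descends along finite injective maps of Noetherian rings. -/
theorem flat_descent [IsNoetherianRing S] [Module.Finite R S] (hinj : Function.Injective (algebraMap R S)) :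
    Module.Flat R M := by
  have := goodOn_quotient (M := M) (R := R) (⊥ : Ideal S)
  have hb : (⊥ : Ideal S).comap (algebraMap R S) = ⊥ := by
    rw [← RingHom.ker_eq_comap_bot]; exact (RingHom.injective_iff_ker_eq_bot _).1 hinj
  exact (hb ▸ this).flat

end Groth.Agent.FiniteInjDescent
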