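import Groth.Agent.FiniteInjDescent.Basic
import Groth.Agent.MLMod.Descent

/-!
# Projectivity descends along finite injective maps of Noetherian rings
-/

universe u

open TensorProduct CAlg Groth.MLMod

namespace Groth.Agent.FiniteInjDescent

variable {R : Type u} [CommRing R] {S : Type u} [CommRing S] [Algebra R S]

theorem lTensor_injective_of_flat_quotient_aux {A B C F : Type u} [AddCommGroup F] [Module R F]
    [Module.Flat R F] [AddCommGroup A] [Module R A]
    [AddCommGroup B] [Module R B] [AddCommGroup C] [Module R C] [Module.Flat R C]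
    {f : A →ₗ[R] B} {g : B →ₗ[R] C} (hf : Function.Injective f) (hfg : Function.Exact f g)
    (hg : Function.Surjective g) {N : Type u} [AddCommGroup N] [Module R N]
    (q : F →ₗ[R] N) (hq : Function.Surjective q) :
    Function.Injective (f.lTensor N) := by
  let K := LinearMap.ker q
  rw [injective_iff_map_eq_zero]
  intro z hz
  obtain ⟨w, rfl⟩ := LinearMap.rTensor_surjective A hq z
  have hex0 : Function.Exact K.subtype q := LinearMap.exact_subtype_ker_map q
  have hex : ∀ (X : Type u) [AddCommGroup X] [Module R X],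
      Function.Exact (K.subtype.rTensor X) (q.rTensor X) := by
    intro X _ _
    exact rTensor_exact X hex0 hq
  have h1 : q.rTensor B (f.lTensor F w) = 0 := by
    rw [← hz, ← LinearMap.comp_apply, ← LinearMap.comp_apply, LinearMap.rTensor_comp_lTensor,
      LinearMap.lTensor_comp_rTensor]
  obtain ⟨k, hk⟩ := (hex B _).1 h1
  have h2 : g.lTensor K k = 0 := by
    apply (Module.Flat.rTensor_preserves_injective_linearMap (M := C) K.subtype K.injective_subtype)
    rw [map_zero, ← LinearMap.comp_apply, LinearMap.rTensor_comp_lTensor,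
      ← LinearMap.lTensor_comp_rTensor, LinearMap.comp_apply, hk, ← LinearMap.lTensor_comp_apply,
      hfg.linearMap_comp_eq_zero, LinearMap.lTensor_zero, LinearMap.zero_apply]
  obtain ⟨a, ha⟩ := ((lTensor_exact K hfg hg) k).1 h2
  have h3 : w = K.subtype.rTensor A a := by
    apply Module.Flat.lTensor_preserves_injective_linearMap (M := F) f hf
    rw [← hk, ← ha, ← LinearMap.comp_apply, ← LinearMap.comp_apply, LinearMap.rTensor_comp_lTensor,
      LinearMap.lTensor_comp_rTensor]
  rw [h3]
  exact (hex A).apply_apply_eq_zero a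

/-- A submodule with flat quotient stays injective after any tensor product. -/
theorem lTensor_injective_of_flat_quotient {A B C : Type u} [AddCommGroup A] [Module R A]
    [AddCommGroup B] [Module R B] [AddCommGroup C] [Module R C] [Module.Flat R C]
    {f : A →ₗ[R] B} {g : B →ₗ[R] C} (hf : Function.Injective f) (hfg : Function.Exact f g)
    (hg : Function.Surjective g) (N : Type u) [AddCommGroup N] [Module R N] :
    Function.Injective (f.lTensor N) :=
  lTensor_injective_of_flat_quotient_aux (F := N →₀ R) hf hfg hg (Finsupp.linearCombination R id)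
    fun n => ⟨Finsupp.single n 1, by simp⟩

variable (X : Type u) [AddCommGroup X] [Module R X]

/-- The Mittag-Leffler comparison is injective on families killed by `J`. -/
def GoodML (J : Ideal R) : Prop :=
  ∀ (ι : Type u) (Q : ι → Type u) [∀ i, AddCommGroup (Q i)] [∀ i, Module R (Q i)],
    (∀ i, ∀ r ∈ J, ∀ x : Q i, r • x = 0) → ∀ x : X ⊗[R] (∀ i, Q i),
      (∀ i, (LinearMap.proj i : (∀ i, Q i) →ₗ[R] Q i).lTensor X x = 0) → x = 0

variable {X}

theorem GoodML.mono {J J' : Ideal R} (h : GoodML X J) (hle : J ≤ J') : GoodML X J' :=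
  fun ι Q _ _ hQ => h ι Q fun i r hr => hQ i r (hle hr)

/-- Extensions of families. -/
theorem good_of_extension [Module.Flat R X] {ι : Type u} {Q : ι → Type u} [∀ i, AddCommGroup (Q i)]
    [∀ i, Module R (Q i)] {J₁ J₂ : Ideal R} (h₁ : GoodML X J₁) (h₂ : GoodML X J₂)
    (P : ∀ i, Submodule R (Q i)) (hP : ∀ i, ∀ r ∈ J₁, ∀ x ∈ P i, r • x = 0)
    (hQ : ∀ i, ∀ r ∈ J₂, ∀ x : Q i, r • x ∈ P i)
    (x : X ⊗[R] (∀ i, Q i))
    (hx : ∀ i, (LinearMap.proj i : (∀ i, Q i) →ₗ[R] Q i).lTensor X x = 0) : x = 0 := by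
  let f : (∀ i, P i) →ₗ[R] (∀ i, Q i) := LinearMap.pi fun i => (P i).subtype ∘ₗ LinearMap.proj i
  let g : (∀ i, Q i) →ₗ[R] (∀ i, Q i ⧸ P i) := LinearMap.pi fun i => (P i).mkQ ∘ₗ LinearMap.proj i
  have hg : Function.Surjective g := fun y => by
    choose z hz using fun i => Submodule.Quotient.mk_surjective (P i) (y i)
    exact ⟨z, funext hz⟩
  have hfg : Function.Exact f g := fun y => by
    constructor
    · intro hy
      exact ⟨fun i => ⟨y i, (Submodule.Quotient.mk_eq_zero _).1 (congrFun hy i)⟩, rfl⟩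
    · rintro ⟨z, rfl⟩
      exact funext fun i => (Submodule.Quotient.mk_eq_zero _).2 (z i).2
  have h0 : g.lTensor X x = 0 := by
    refine h₂ ι (fun i => Q i ⧸ P i) (fun i r hr z => ?_) _ fun i => ?_
    · obtain ⟨z, rfl⟩ := Submodule.Quotient.mk_surjective (P i) z
      rw [← Submodule.Quotient.mk_smul, Submodule.Quotient.mk_eq_zero]
      exact hQ i r hr z
    · rw [← LinearMap.lTensor_comp_apply]
      show ((P i).mkQ ∘ₗ LinearMap.proj i).lTensor X x = 0
      rw [LinearMap.lTensor_comp_apply, hx i, map_zero]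
  obtain ⟨y, rfl⟩ := ((lTensor_exact X hfg hg) x).1 h0
  rw [h₁ ι (fun i => P i) (fun i r hr z => Subtype.ext (hP i r hr z z.2)) y fun i => ?_, map_zero]
  apply Module.Flat.lTensor_preserves_injective_linearMap (P i).subtype (P i).injective_subtype
  rw [map_zero, ← LinearMap.lTensor_comp_apply]
  have := hx i
  rwa [← LinearMap.lTensor_comp_apply] at this

/-- Families of `S`-modules. -/
theorem good_of_algebra (h : IsMittagLeffler S (S ⊗[R] X)) {ι : Type u} {T : ι → Type u}
    [∀ i, AddCommGroup (T i)] [∀ i, Module R (T i)] [∀ i, Module S (T i)]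
    [∀ i, IsScalarTower R S (T i)] (x : X ⊗[R] (∀ i, T i))
    (hx : ∀ i, (LinearMap.proj i : (∀ i, T i) →ₗ[R] T i).lTensor X x = 0) : x = 0 := by
  obtain ⟨z, rfl⟩ := (theta (S := S) X (∀ i, T i)).surjective x
  suffices z = 0 by rw [this, map_zero]
  refine ml_eq_zero h z fun i => ?_
  apply (theta X (T i)).injective
  rw [map_zero, theta_natural]
  exact hx i

/-- The absolute step. -/
theorem goodML_step [Module.Finite R S] [Module.Flat R X] (hinj : Function.Injective (algebraMap R S))
    (hS : IsMittagLeffler S (S ⊗[R] X))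
    (h : ∀ K : Ideal S, K ≠ ⊥ → GoodML X (Ideal.comap (algebraMap R S) K)) : GoodML X (⊥ : Ideal R) := by
  intro ι Q _ _ _ x hx
  rcases subsingleton_or_nontrivial R with hR | hR
  · haveI : Subsingleton (X ⊗[R] (∀ i, Q i)) := Module.subsingleton R _
    exact Subsingleton.elim _ _
  by_cases hzd : ∃ a b : R, a ≠ 0 ∧ b ≠ 0 ∧ a * b = 0
  · obtain ⟨a, b, ha, hb, hab⟩ := hzd
    let s := algebraMap R S a
    let μ₀ : S →ₗ[S] S := LinearMap.mulLeft S s
    have hK : Ideal.span {s} ≠ ⊥ := by
      rw [Ne, Ideal.span_singleton_eq_bot]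
      exact fun hh => ha (hinj (hh.trans (map_zero _).symm))
    have hQ : (LinearMap.ker μ₀ : Ideal S) ≠ ⊥ := by
      rw [Submodule.ne_bot_iff]
      refine ⟨algebraMap R S b, ?_, fun hh => hb (hinj (hh.trans (map_zero _).symm))⟩
      show s * algebraMap R S b = 0
      rw [← map_mul, hab, map_zero]
    let J : Ideal R := Ideal.comap (algebraMap R S) (Ideal.span {s})
    refine good_of_extension (h _ hQ) (h _ hK) (fun i => J • (⊤ : Submodule R (Q i))) ?_ ?_ x hx
    · intro i t ht z hz
      refine Submodule.smul_induction_on hz (fun r hr n _ => ?_) fun u v hu hv => by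
        rw [smul_add, hu, hv, add_zero]
      have : t * r = 0 := by
        apply hinj
        obtain ⟨w, hw⟩ := Ideal.mem_span_singleton.1 hr
        rw [map_mul, hw, map_zero]
        have ht' : s * algebraMap R S t = 0 := ht
        linear_combination w * ht'
      rw [smul_smul, this, zero_smul]
    · exact fun i r hr z => Submodule.smul_mem_smul hr Submodule.mem_top
  push_neg at hzd
  haveI : NoZeroDivisors R := ⟨fun {a b} hab => by
    by_contra hh; push_neg at hh; exact hzd a b hh.1 hh.2 hab⟩
  haveI : IsDomain R := NoZeroDivisors.to_isDomain R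
  haveI : Algebra.IsIntegral R S := Algebra.IsIntegral.of_finite R S
  obtain ⟨q, -, hq, hqc⟩ := Ideal.exists_ideal_over_prime_of_isIntegral (⊥ : Ideal R) (⊥ : Ideal S)
    (by
      intro a ha
      rw [Ideal.mem_comap, Ideal.mem_bot] at ha
      exact Ideal.mem_bot.2 (hinj (ha.trans (map_zero _).symm)))
  by_cases hq0 : q = ⊥
  swap
  · exact (hqc ▸ h q hq0) ι Q (fun i r hr z => by rw [(Ideal.mem_bot).1 hr, zero_smul]) x hx
  subst hq0
  haveI := hq
  haveI : IsDomain S := IsDomain.of_bot_isPrime S
  obtain ⟨φ, hc⟩ : ∃ φ : S →ₗ[R] R, φ 1 ≠ 0 := exists_dual_one_ne_zero hinj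
  have hne : Ideal.span {algebraMap R S (φ 1 ^ 2)} ≠ ⊥ := by
    rw [Ne, Ideal.span_singleton_eq_bot]
    exact fun hh => pow_ne_zero 2 hc (hinj (hh.trans (map_zero _).symm))
  have hgood : GoodML X (Ideal.span {φ 1}) := by
    refine (h _ hne).mono fun a ha => ?_
    obtain ⟨s, hs⟩ := Ideal.mem_span_singleton.1 ha
    have h1 : φ (algebraMap R S a) = a * φ 1 := by
      rw [Algebra.algebraMap_eq_smul_one, map_smul, smul_eq_mul]
    rw [hs, ← Algebra.smul_def, map_smul, smul_eq_mul] at h1
    refine Ideal.mem_span_singleton.2 ⟨φ s, mul_left_cancel₀ hc ?_⟩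
    rw [mul_comm, ← h1]
    ring
  -- kernel of `Q i → S ⊗ Q i` is killed by `φ 1`
  let P : ∀ i, Submodule R (Q i) := fun i => LinearMap.ker (TensorProduct.mk R S (Q i) 1)
  let f : (∀ i, P i) →ₗ[R] (∀ i, Q i) := LinearMap.pi fun i => (P i).subtype ∘ₗ LinearMap.proj i
  let g : (∀ i, Q i) →ₗ[R] (∀ i, S ⊗[R] Q i) :=
    LinearMap.pi fun i => TensorProduct.mk R S (Q i) 1 ∘ₗ LinearMap.proj i
  have hfg : Function.Exact f g := fun y => by
    constructor
    · intro hy
      exact ⟨fun i => ⟨y i, congrFun hy i⟩, rfl⟩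
    · rintro ⟨z, rfl⟩
      exact funext fun i => (z i).2
  have h0 : g.lTensor X x = 0 := by
    refine good_of_algebra hS (T := fun i => S ⊗[R] Q i) _ fun i => ?_
    rw [← LinearMap.lTensor_comp_apply]
    show (TensorProduct.mk R S (Q i) 1 ∘ₗ LinearMap.proj i).lTensor X x = 0
    rw [LinearMap.lTensor_comp_apply, hx i, map_zero]
  obtain ⟨y, rfl⟩ := (Module.Flat.lTensor_exact X hfg x).1 h0
  rw [hgood ι (fun i => P i) (fun i r hr z => ?_) y fun i => ?_, map_zero]
  · obtain ⟨t, rfl⟩ := Ideal.mem_span_singleton.1 hr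
    refine Subtype.ext ?_
    have hz := congrArg (fun w => TensorProduct.lid R (Q i) (φ.rTensor (Q i) w)) (z.2 :
      TensorProduct.mk R S (Q i) 1 (z : Q i) = 0)
    simp only [TensorProduct.mk_apply, LinearMap.rTensor_tmul, TensorProduct.lid_tmul, map_zero] at hz
    show (φ 1 * t) • (z : Q i) = 0
    rw [mul_comm, mul_smul, hz, smul_zero]
  · apply Module.Flat.lTensor_preserves_injective_linearMap (P i).subtype (P i).injective_subtype
    rw [map_zero, ← LinearMap.lTensor_comp_apply]
    have := hx i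
    rwa [← LinearMap.lTensor_comp_apply] at this

theorem goodML_quotient [IsNoetherianRing S] [Module.Finite R S] [Module.Flat R X]
    (hS : IsMittagLeffler S (S ⊗[R] X)) (K : Ideal S) :
    GoodML X (Ideal.comap (algebraMap R S) K) := by
  induction K using IsNoetherian.induction with
  | hgt K ih =>
    let J : Ideal R := Ideal.comap (algebraMap R S) K
    let R' := R ⧸ J
    let S' := S ⧸ K
    letI : Algebra R' S' := (Ideal.quotientMap K (algebraMap R S) le_rfl).toAlgebra
    haveI : IsScalarTower R R' S' := IsScalarTower.of_algebraMap_eq fun _ => rfl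
    haveI : Module.Finite R S' := Module.Finite.of_surjective (Submodule.mkQ (K.restrictScalars R))
      (Submodule.Quotient.mk_surjective _)
    haveI : Module.Finite R' S' := Module.Finite.of_restrictScalars_finite R R' S'
    have hS' : IsMittagLeffler S' (S' ⊗[R'] (R' ⊗[R] X)) :=
      ml_of_equiv ((TensorProduct.AlgebraTensorModule.cancelBaseChange R R' S' S' X).trans
          (TensorProduct.AlgebraTensorModule.cancelBaseChange R S S' S' X).symm) (ml_baseChange hS)
    have hgood : GoodML (R' ⊗[R] X) (⊥ : Ideal R') := by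
      refine goodML_step (S := S') Ideal.quotientMap_injective hS' fun K' hK' => ?_
      have hlt : K < Ideal.comap (Ideal.Quotient.mk K) K' := by
        refine lt_of_le_of_ne (fun x hx => ?_) fun heq => hK' ?_
        · rw [Ideal.mem_comap, Ideal.Quotient.eq_zero_iff_mem.2 hx]; exact K'.zero_mem
        · rw [← Ideal.map_comap_of_surjective _ Ideal.Quotient.mk_surjective K', ← heq, Ideal.map_quotient_self]
      intro ι Q _ _ hQ x hx
      letI : ∀ i, Module R (Q i) := fun i => Module.compHom (Q i) (Ideal.Quotient.mk J)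
      haveI : ∀ i, IsScalarTower R R' (Q i) := fun i => IsScalarTower.of_algebraMap_smul fun _ _ => rfl
      apply (theta X (∀ i, Q i)).injective
      rw [map_zero]
      refine ih _ hlt ι Q (fun i r hr z => hQ i _ hr z) _ fun i => ?_
      have := congrArg (theta X (Q i)) (hx i)
      rw [map_zero, theta_natural] at this
      exact this
    intro ι Q _ _ hQ x hx
    have hQ' : ∀ i, Module.IsTorsionBySet R (Q i) (J : Set R) := fun i z a => hQ i a.1 a.2 z
    letI : ∀ i, Module R' (Q i) := fun i => (hQ' i).module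
    haveI : ∀ i, IsScalarTower R R' (Q i) := fun i => IsScalarTower.of_algebraMap_smul fun _ _ => rfl
    obtain ⟨z, rfl⟩ := (theta (S := R') X (∀ i, Q i)).surjective x
    suffices z = 0 by rw [this, map_zero]
    refine hgood ι Q (fun i r hr w => by rw [(Ideal.mem_bot).1 hr, zero_smul]) z fun i => ?_
    apply (theta X (Q i)).injective
    rw [map_zero, theta_natural]
    exact hx i

/-- Descent of the Mittag-Leffler property for flat modules. -/
theorem ml_descent' [IsNoetherianRing S] [Module.Finite R S] [Module.Flat R X]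
    (hinj : Function.Injective (algebraMap R S)) (hS : IsMittagLeffler S (S ⊗[R] X)) :
    IsMittagLeffler R X := by
  rw [isML_iff]
  intro ι Q _ _ x hx
  refine (goodML_quotient hS (⊥ : Ideal S)) ι Q (fun i r hr z => ?_) x hx
  rw [Ideal.mem_comap, Ideal.mem_bot] at hr
  rw [hinj (hr.trans (map_zero _).symm), zero_smul]

section Devissage

variable {M : Type u} [AddCommGroup M] [Module R M] {κ : Type u}
  (N : κ → Submodule S (S ⊗[R] M))

/-- A quotient by a submodule with split base change is projective after base change. -/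
theorem projective_quotient [Module.Projective S (S ⊗[R] M)] (hind : iSupIndep N)
    (htop : ⨆ i, N i = ⊤) (M₁ : Submodule R M) (I : Set κ) (hI : bc S M₁ = part N I) :
    Module.Projective S (S ⊗[R] (M ⧸ M₁)) := by
  have hcompl := isCompl_part N hind htop I
  haveI : Module.Projective S (part N Iᶜ) :=
    Module.Projective.of_split (part N Iᶜ).subtype ((part N Iᶜ).projectionOnto _ hcompl.symm)
      (LinearMap.ext fun z => Submodule.projectionOnto_apply_left hcompl.symm z)
  refine projective_of_ker_eq (A := S) (U := S ⊗[R] M) ((part N Iᶜ).projectionOnto _ hcompl.symm)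
    (M₁.mkQ.baseChange S) (fun y => ⟨y.1, Submodule.projectionOnto_apply_left hcompl.symm y⟩)
    (LinearMap.lTensor_surjective S M₁.mkQ_surjective) ?_
  ext z
  rw [LinearMap.mem_ker, LinearMap.mem_ker, Submodule.projectionOnto_apply_eq_zero_iff hcompl.symm,
    ← hI, ← range_baseChange_subtype, LinearMap.mem_range, LinearMap.baseChange_eq_ltensor,
    LinearMap.baseChange_eq_ltensor]
  exact ((lTensor_exact S (LinearMap.exact_subtype_mkQ M₁) M₁.mkQ_surjective) z).symm

/-- The key step: the image of `M''` in `M ⧸ M'` becomes projective after base change. -/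
theorem projective_image [Module.Projective S (S ⊗[R] M)]
    (hind : iSupIndep N) (htop : ⨆ i, N i = ⊤) (M' M'' : Submodule R M) (I J : Set κ)
    (hI : bc S M' = part N I) (hJ : bc S M'' = part N J)
    (hkey : ∀ z : S ⊗[R] M'', (M'.mkQ.submoduleMap M'').baseChange S z = 0 ↔
      M''.subtype.baseChange S z ∈ bc S M') :
    Module.Projective S (S ⊗[R] (M''.map M'.mkQ)) := by
  have hcompl := isCompl_part N hind htop (J \ I)
  haveI : Module.Projective S (part N (J \ I)) :=
    Module.Projective.of_split (part N (J \ I)).subtype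
      ((part N (J \ I)).projectionOnto _ hcompl)
      (LinearMap.ext fun z => Submodule.projectionOnto_apply_left hcompl z)
  let ψ : S ⊗[R] M'' →ₗ[S] part N (J \ I) :=
    (part N (J \ I)).projectionOnto _ hcompl ∘ₗ M''.subtype.baseChange S
  let qS : S ⊗[R] M'' →ₗ[S] S ⊗[R] (M''.map M'.mkQ) := (M'.mkQ.submoduleMap M'').baseChange S
  have hqS : Function.Surjective qS :=
    LinearMap.lTensor_surjective S (M'.mkQ.submoduleMap_surjective M'')
  have hker : LinearMap.ker qS = LinearMap.ker ψ := by
    ext z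
    rw [LinearMap.mem_ker, hkey, hI, LinearMap.mem_ker,
      LinearMap.comp_apply, Submodule.projectionOnto_apply_eq_zero_iff hcompl]
    constructor
    · intro h
      exact (biSup_mono (fun i hi => fun hK => hK.2 hi) : part N I ≤ part N (J \ I)ᶜ) h
    · intro h
      have hz : M''.subtype.baseChange S z ∈ part N J := by
        rw [← hJ, ← range_baseChange_subtype]
        exact ⟨z, rfl⟩
      have hsplit : part N J ≤ part N (J \ I) ⊔ part N (J ∩ I) := by
        rw [← iSup_union]
        exact biSup_mono fun i hi => by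
          by_cases hiI : i ∈ I
          · exact Or.inr ⟨hi, hiI⟩
          · exact Or.inl ⟨hi, hiI⟩
      obtain ⟨a, ha, b, hb, hab⟩ := Submodule.mem_sup.1 (hsplit hz)
      have hbK : b ∈ part N (J \ I)ᶜ :=
        (biSup_mono (fun i hi => fun hK => hK.2 hi.2) : part N (J ∩ I) ≤ part N (J \ I)ᶜ) hb
      have ha0 : a = 0 := Submodule.disjoint_def.1 hcompl.disjoint a ha (by
        rw [eq_sub_of_add_eq hab]
        exact Submodule.sub_mem _ h hbK)
      rw [← hab, ha0, zero_add]
      exact (biSup_mono fun i hi => hi.2 : part N (J ∩ I) ≤ part N I) hb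
  have hψ : Function.Surjective ψ := by
    intro y
    obtain ⟨z, hz⟩ : (y : S ⊗[R] M) ∈ LinearMap.range (M''.subtype.baseChange S) := by
      rw [range_baseChange_subtype, hJ]
      exact (biSup_mono fun i hi => hi.1 : part N (J \ I) ≤ part N J) y.2
    exact ⟨z, by rw [LinearMap.comp_apply, hz, Submodule.projectionOnto_apply_left hcompl y]⟩
  exact projective_of_ker_eq (A := S) (U := S ⊗[R] M'') (V := part N (J \ I)) ψ qS hψ hqS
    hker.symm

variable [IsNoetherianRing S] [Module.Finite R S]

theorem flat_quotient [Module.Projective S (S ⊗[R] M)] (hinj : Function.Injective (algebraMap R S))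
    (hind : iSupIndep N) (htop : ⨆ i, N i = ⊤) (M₁ : Submodule R M) (I : Set κ)
    (hI : bc S M₁ = part N I) : Module.Flat R (M ⧸ M₁) := by
  haveI := projective_quotient N hind htop M₁ I hI
  exact flat_descent (S := S) hinj

theorem exists_step' [Module.Projective S (S ⊗[R] M)] (hinj : Function.Injective (algebraMap R S))
    (hind : iSupIndep N) (htop : ⨆ i, N i = ⊤) (hcg : ∀ i, SubCG (N i))
    (M' : Submodule R M) (I : Set κ) (hI : bc S M' = part N I) (m₀ : M) :
    ∃ (M₁ C : Submodule R M) (J : Set κ), m₀ ∈ M₁ ∧ M' ≤ M₁ ∧ bc S M₁ = part N (I ∪ J) ∧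
      Disjoint C M' ∧ C ⊔ M' = M₁ ∧ Module.Projective R C := by
  obtain ⟨M'', J, hM''c, hm₀, hJ⟩ := exists_cg_with_bc_eq_part N htop hcg m₀
  have hsup : bc S (M'' ⊔ M') = part N (I ∪ J) := by
    rw [show bc S (M'' ⊔ M') = bc S M'' ⊔ bc S M' from bc_gc.l_sup, hJ, hI, sup_comm]
    exact iSup_union.symm
  haveI := flat_quotient N hinj hind htop (M'' ⊔ M') (I ∪ J) hsup
  -- the quotient of `M/M'` by the image of `M''` is flat
  have hmap : (M'' ⊔ M').map M'.mkQ = M''.map M'.mkQ := by
    rw [Submodule.map_sup]; simp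
  let e : ((M ⧸ M') ⧸ M''.map M'.mkQ) ≃ₗ[R] M ⧸ (M'' ⊔ M') :=
    Submodule.quotEquivOfEq _ _ hmap.symm ≪≫ₗ
      Submodule.quotientQuotientEquivQuotient M' (M'' ⊔ M') le_sup_right
  haveI : Module.Flat R ((M ⧸ M') ⧸ M''.map M'.mkQ) := Module.Flat.of_linearEquiv e
  have hinj' : Function.Injective ((M''.map M'.mkQ).subtype.lTensor S) :=
    lTensor_injective_of_flat_quotient (Submodule.injective_subtype _)
      (LinearMap.exact_subtype_mkQ _) (Submodule.mkQ_surjective _) S
  have hkey : ∀ z : S ⊗[R] M'', (M'.mkQ.submoduleMap M'').baseChange S z = 0 ↔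
      M''.subtype.baseChange S z ∈ bc S M' := by
    intro z
    simp only [← range_baseChange_subtype, LinearMap.mem_range, LinearMap.baseChange_eq_ltensor]
    rw [← map_eq_zero_iff _ hinj', ← LinearMap.lTensor_comp_apply]
    have hcomp : (M''.map M'.mkQ).subtype ∘ₗ M'.mkQ.submoduleMap M'' = M'.mkQ ∘ₗ M''.subtype := rfl
    rw [hcomp, LinearMap.lTensor_comp_apply]
    exact (lTensor_exact S (LinearMap.exact_subtype_mkQ M') M'.mkQ_surjective) _
  haveI := projective_image N hind htop M' M'' I J hI hJ hkey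
  haveI : Module.Flat R (M''.map M'.mkQ) := flat_descent (S := S) hinj
  haveI : Module.Projective R (M''.map M'.mkQ) :=
    projective_of_flat_ml (ml_descent' hinj (ml_of_projective (R := S) (M := S ⊗[R] (M''.map M'.mkQ))))
      (subCG_iff.1 (hM''c.map _))
  obtain ⟨C, hd, hs, hp⟩ := exists_projective_complement M' M''
  exact ⟨M'' ⊔ M', C, J, Submodule.mem_sup_left hm₀, le_sup_right, hsup, hd, hs, hp⟩

/-- Descent of projectivity, given a decomposition upstairs. -/
theorem projective_descent_aux' [Module.Projective S (S ⊗[R] M)] (hinj : Function.Injective (algebraMap R S))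
    (hind : iSupIndep N) (htop : ⨆ i, N i = ⊤) (hcg : ∀ i, SubCG (N i)) :
    Module.Projective R M := by
  classical
  let G : Set (Submodule R M × Set κ × Set (Submodule R M)) :=
    {p | bc S p.1 = part N p.2.1 ∧ sSupIndep p.2.2 ∧ sSup p.2.2 = p.1 ∧
      ∀ l ∈ p.2.2, Module.Projective R l}
  obtain ⟨⟨M', I, L⟩, ⟨hbc, hindL, hsup, hproj⟩, hmax⟩ : ∃ m, Maximal (· ∈ G) m := by
    refine zorn_le₀ G fun c hcG hchain => ?_
    refine ⟨(⨆ p ∈ c, p.1, ⋃ p ∈ c, p.2.1, ⋃ p ∈ c, p.2.2), ⟨?_, ?_, ?_, ?_⟩, fun p hp =>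
      ⟨le_biSup (fun p : Submodule R M × Set κ × Set (Submodule R M) => p.1) hp,
        fun x hx => Set.mem_biUnion hp hx, fun x hx => Set.mem_biUnion hp hx⟩⟩
    · show bc S (⨆ p ∈ c, p.1) = part N (⋃ p ∈ c, p.2.1)
      simp only [bc_gc.l_iSup, part]
      rw [iSup_iUnion]
      refine iSup_congr fun p => ?_
      rw [iSup_iUnion]
      exact iSup_congr fun hp => (hcG hp).1
    · show sSupIndep (⋃ p ∈ c, p.2.2)
      rw [← Set.sUnion_image (fun p : Submodule R M × Set κ × Set (Submodule R M) => p.2.2) c]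
      refine iSupIndep_sUnion_of_directed ?_ ?_
      · exact (hchain.image_of_map_rel
          (fun a b : Submodule R M × Set κ × Set (Submodule R M) => a ≤ b)
          (fun a b : Set (Submodule R M) => a ⊆ b)
          (fun p => p.2.2) fun a b hab => hab.2.2).directedOn
      · rintro _ ⟨p, hp, rfl⟩
        exact (hcG hp).2.1
    · show sSup (⋃ p ∈ c, p.2.2) = ⨆ p ∈ c, p.1
      rw [sSup_eq_iSup, iSup_iUnion]
      refine iSup_congr fun p => ?_
      rw [iSup_iUnion]
      refine iSup_congr fun hp => ?_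
      rw [← sSup_eq_iSup, (hcG hp).2.2.1]
    · intro l hl
      obtain ⟨p, hp, hl'⟩ := Set.mem_iUnion₂.1 hl
      exact (hcG hp).2.2.2 l hl'
  suffices hM' : M' = ⊤ by
    have hint := isInternal_of_sSupIndep hindL (hsup.trans hM')
    haveI : ∀ l : L, Module.Projective R l.1 := fun l => hproj l.1 l.2
    exact Module.Projective.of_equiv
      (LinearEquiv.ofBijective (DirectSum.coeLinearMap fun l : L => l.1) hint)
  by_contra hne
  obtain ⟨m₀, hm₀⟩ : ∃ m₀, m₀ ∉ M' := by
    by_contra h
    push_neg at h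
    exact hne (Submodule.eq_top_iff'.2 h)
  obtain ⟨M₁, C, J, hm₁, hle, hbc₁, hd, hs, hp⟩ := exists_step' N hinj hind htop hcg M' I hbc m₀
  dsimp only at hsup
  have hnew : (M₁, I ∪ J, insert C L) ∈ G := by
    refine ⟨hbc₁, sSupIndep_insert_of_disjoint hindL (hsup ▸ hd), ?_, ?_⟩
    · show sSup (insert C L) = M₁
      rw [sSup_insert, hsup, hs]
    · rintro l (rfl | hl)
      · exact hp
      · exact hproj l hl
  exact hm₀ ((hmax hnew ⟨hle, Set.subset_union_left, Set.subset_insert _ _⟩).1 hm₁)

/-- Descent of projectivity. -/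
theorem projective_descent' [Module.Projective S (S ⊗[R] M)] (hinj : Function.Injective (algebraMap R S)) :
    Module.Projective R M := by
  obtain ⟨L₀, hind₀, htop₀, hcg₀⟩ :=
    exists_decomposition_of_projective (R := S) (M := S ⊗[R] M)
  exact projective_descent_aux' (fun l : L₀ => l.1) hinj ((sSupIndep_iff _).1 hind₀)
    (by rw [← htop₀, sSup_eq_iSup']) fun l => hcg₀ l.1 l.2

end Devissage

end Groth.Agent.FiniteInjDescent
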